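import Groth.Agent.GrLib8.NormSection.Ring
import Groth.Agent.Pi1X.NormalCover
import Groth.Agent.Pi1X.FEtFull
import Groth.Agent.GeomIrrSpread.SmoothNeutral
import Groth.Prelude.Def_LefX
import Mathlib.AlgebraicGeometry.Normalization

/-!
# Linear sections of covers of the punctured spectrum of a normal complete local ring
-/

set_option autoImplicit false
set_option linter.style.haveILetI false
set_option backward.isDefEq.respectTransparency false
set_option backward.isDefEq.respectTransparency.types false

universe u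

open CategoryTheory CategoryTheory.Limits AlgebraicGeometry TopologicalSpace IsLocalRing

namespace Groth.Agent.GrLib8.NormSection

variable {A : Type u} [CommRing A] [IsDomain A] [IsLocalRing A] [IsNoetherianRing A]

omit [IsDomain A] [IsNoetherianRing A] in
/-- Basic opens of elements of the maximal ideal lie in the punctured spectrum. -/
theorem basicOpen_le_punctured {a : A} (ha : a ∈ maximalIdeal A) :
    (PrimeSpectrum.basicOpen a : (Spec (CommRingCat.of A)).Opens) ≤ FEt.puncturedSpec A := by
  intro p hp h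
  rw [Set.mem_singleton_iff] at h
  exact hp (h ▸ ha)

/-- An integral finite cover of the punctured spectrum is the punctured spectrum of a finite local domain. -/
theorem exists_normalization [IsAdicComplete (maximalIdeal A) A] (hA : maximalIdeal A ≠ ⊥) {V : Scheme.{u}}
    [IsIntegral V] (v : V ⟶ (FEt.puncturedSpec A : Scheme.{u})) [IsFinite v] (hv : Function.Surjective v.base) :
    ∃ (B : Type u) (_ : CommRing B) (_ : IsDomain B) (_ : IsLocalRing B) (_ : Algebra A B) (_ : FaithfulSMul A B)
      (_ : Module.Finite A B) (_ : IsLocalHom (algebraMap A B)) (j : V ⟶ Spec (CommRingCat.of B)),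
      Topology.IsEmbedding j.base ∧ Set.range j.base = LC.punct B ∧
      j ≫ Spec.map (CommRingCat.ofHom (algebraMap A B)) = v ≫ (FEt.puncturedSpec A).ι := by
  let U := FEt.puncturedSpec A
  haveI : IsNoetherian (Spec (CommRingCat.of A)) := inferInstance
  haveI : QuasiCompact U.ι := inferInstance
  let h : V ⟶ Spec (CommRingCat.of A) := v ≫ U.ι
  haveI : QuasiCompact h := inferInstance
  haveI : QuasiSeparated h := inferInstance
  let ν := h.fromNormalization
  haveI : IsAffine h.normalization := isAffine_of_isAffineHom ν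
  haveI hfst : IsIso (pullback.fst h U.ι) := by
    refine ⟨pullback.lift (𝟙 V) v (by rw [Category.id_comp]), pullback.hom_ext
      (by rw [Category.assoc, pullback.lift_fst, Category.comp_id, Category.id_comp]) ?_, pullback.lift_fst _ _ _⟩
    rw [Category.assoc, pullback.lift_snd, Category.id_comp, ← cancel_mono U.ι]
    simpa using pullback.condition
  haveI : IsIntegralHom (pullback.snd h U.ι) := by
    have h' : pullback.snd h U.ι = pullback.fst h U.ι ≫ v := by
      rw [← cancel_mono U.ι, Category.assoc, ← pullback.condition]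
    rw [h']; infer_instance
  let e : V ⟶ pullback ν U.ι :=
    inv (pullback.fst h U.ι) ≫ (pullback.snd h U.ι).toNormalization ≫ h.normalizationPullback U.ι
  haveI : IsIso e := inferInstance
  have he : h.toNormalization = e ≫ pullback.fst _ _ := by
    simp only [e, ν, Category.assoc, Scheme.Hom.toNormalization_normalizationPullback_fst]
    rw [IsIso.inv_hom_id_assoc]
  haveI : IsOpenImmersion h.toNormalization := by rw [he]; infer_instance
  let B := Γ(h.normalization, ⊤)
  let φ : CommRingCat.of A ⟶ B := (Scheme.ΓSpecIso (CommRingCat.of A)).inv ≫ ν.appTop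
  letI : Algebra A B := φ.hom.toAlgebra
  let w : h.normalization ≅ Spec B := h.normalization.isoSpec
  have hw : w.hom ≫ Spec.map φ = ν := by
    simp only [φ, Spec.map_comp, w, Scheme.isoSpec_hom]
    rw [← Category.assoc, ← Scheme.toSpecΓ_naturality, Category.assoc, ← SpecMap_ΓSpecIso_hom, ← Spec.map_comp,
      Iso.inv_hom_id, Spec.map_id, Category.comp_id]
  haveI : IsDomain B := inferInstance
  haveI : Algebra.IsIntegral A B := by
    have h1 : IsIntegralHom (Spec.map φ) := by
      rw [show Spec.map φ = w.inv ≫ ν by rw [Iso.eq_inv_comp, hw]]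
      infer_instance
    exact algebraMap_isIntegral_iff.1 (IsIntegralHom.SpecMap_iff.1 h1)
  let j : V ⟶ Spec B := h.toNormalization ≫ w.hom
  have hj : j ≫ Spec.map φ = h := by
    rw [Category.assoc, hw]
    exact h.toNormalization_fromNormalization
  have hrange : Set.range j.base = (Spec.map φ).base ⁻¹' (U : Set _) := by
    ext q
    constructor
    · rintro ⟨x, rfl⟩
      have : (Spec.map φ).base (j.base x) = U.ι.base (v.base x) :=
        congrArg (fun t : V ⟶ Spec (CommRingCat.of A) => t.base x) hj
      rw [Set.mem_preimage, this]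
      exact (v.base x).2
    · intro hq
      obtain ⟨p, hp⟩ : w.inv.base q ∈ Set.range (pullback.fst ν U.ι).base := by
        rw [Scheme.Pullback.range_fst, Scheme.Opens.range_ι, Set.mem_preimage,
          ← Scheme.Hom.comp_apply, show w.inv ≫ ν = Spec.map φ by rw [Iso.inv_comp_eq, hw]]
        exact hq
      refine ⟨(inv e).base p, ?_⟩
      have h2 : h.toNormalization.base ((inv e).base p) = w.inv.base q := by
        rw [← Scheme.Hom.comp_apply, show inv e ≫ h.toNormalization = pullback.fst ν U.ι by
          rw [he, IsIso.inv_hom_id_assoc]]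
        exact hp
      show w.hom.base (h.toNormalization.base ((inv e).base p)) = q
      rw [h2, ← Scheme.Hom.comp_apply, Iso.inv_hom_id]
      rfl
  haveI : FaithfulSMul A B := by
    refine (faithfulSMul_iff_algebraMap_injective A B).2 ((injective_iff_map_eq_zero _).2 fun a ha => ?_)
    by_contra ha0
    obtain ⟨b, hb, hb0⟩ := Submodule.exists_mem_ne_zero_of_ne_bot hA
    have hp : a * b ≠ 0 := mul_ne_zero ha0 hb0
    obtain ⟨x, hx⟩ := hv ⟨⟨⊥, Ideal.isPrime_bot⟩, fun he => hA
      (congrArg PrimeSpectrum.asIdeal (Set.mem_singleton_iff.1 he)).symm⟩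
    have h3 : (Spec.map φ).base (j.base x) = ⟨⊥, Ideal.isPrime_bot⟩ := by
      rw [← Scheme.Hom.comp_apply, hj]
      show U.ι.base (v.base x) = _
      rw [hx]; rfl
    have h4 : a ∈ ((Spec.map φ).base (j.base x)).asIdeal := by
      show algebraMap A B a ∈ (j.base x).asIdeal
      rw [ha]; exact zero_mem _
    rw [h3] at h4
    exact ha0 ((Submodule.mem_bot A).1 h4)
  obtain ⟨a, ha, ha0⟩ := Submodule.exists_mem_ne_zero_of_ne_bot hA
  haveI : Module.Finite A B := by
    refine finite_of_awayMap_finite a ha0 ?_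
    have hU : IsFinite (Spec.map φ ∣_ U) := by
      let eV : V ≅ ((Spec.map φ ⁻¹ᵁ U : (Spec B).Opens) : Scheme.{u}) :=
        IsOpenImmersion.isoOfRangeEq j (Spec.map φ ⁻¹ᵁ U).ι (by rw [hrange, Scheme.Opens.range_ι]; rfl)
      have h5 : Spec.map φ ∣_ U = eV.inv ≫ v := by
        rw [Iso.eq_inv_comp, ← cancel_mono U.ι, Category.assoc, morphismRestrict_ι,
          IsOpenImmersion.isoOfRangeEq_hom_fac_assoc, hj]
      rw [h5]; infer_instance
    have hD : IsFinite (Spec.map φ ∣_ (PrimeSpectrum.basicOpen a : (Spec (CommRingCat.of A)).Opens)) := by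
      let D : (Spec (CommRingCat.of A)).Opens := PrimeSpectrum.basicOpen a
      have h6 : U.ι ''ᵁ (U.ι ⁻¹ᵁ D) = D := by
        rw [Scheme.Hom.image_preimage_eq_opensRange_inf, Scheme.Opens.opensRange_ι]
        exact inf_eq_right.2 (basicOpen_le_punctured ha)
      have h7 : IsFinite (Spec.map φ ∣_ U ∣_ (U.ι ⁻¹ᵁ D)) :=
        IsZariskiLocalAtTarget.restrict hU _
      exact (MorphismProperty.arrow_mk_iso_iff @IsFinite
        (morphismRestrictRestrict (Spec.map φ) U _ ≪≫ morphismRestrictEq _ h6)).1 h7
    exact (IsFinite.SpecMap_iff _).1 ((MorphismProperty.arrow_mk_iso_iff @IsFinite (SpecMapRestrictBasicOpenIso φ a)).1 hD)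
  haveI : HenselianLocalRing A := Hensel.henselianLocalRing_of_henselianRing A
  haveI : IsLocalRing B := UnivOpenDvr5.isLocalRing_of_finite_domain A B
  have hcl : (maximalIdeal B).comap (algebraMap A B) = maximalIdeal A :=
    eq_maximalIdeal (Ideal.isMaximal_comap_of_isIntegral_of_isMaximal (maximalIdeal B))
  haveI : IsLocalHom (algebraMap A B) := ⟨fun x hx => by
    by_contra hx'
    rw [← mem_nonunits_iff, ← mem_maximalIdeal, ← hcl, Ideal.mem_comap] at hx'
    exact hx' hx⟩
  refine ⟨B, inferInstance, inferInstance, inferInstance, inferInstance, inferInstance, inferInstance, inferInstance,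
    j, j.isOpenEmbedding.isEmbedding, ?_, hj⟩
  refine hrange.trans ?_
  ext q
  refine not_congr ⟨fun hq => ?_, fun hq => ?_⟩
  · haveI : ((q.asIdeal).comap (algebraMap A B)).IsMaximal := by
      have h8 : q.asIdeal.comap (algebraMap A B) = maximalIdeal A :=
        congrArg PrimeSpectrum.asIdeal (Set.mem_singleton_iff.1 hq)
      rw [h8]; infer_instance
    exact Set.mem_singleton_iff.2 (PrimeSpectrum.ext (eq_maximalIdeal
      (Ideal.isMaximal_of_isIntegral_of_isMaximal_comap q.asIdeal this)))
  · rw [Set.mem_singleton_iff.1 hq]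
    exact Set.mem_singleton_iff.2 (PrimeSpectrum.ext hcl)

/-- Linear sections of integral covers of the punctured spectrum are connected. -/
theorem isConnected_section [IsAdicComplete (maximalIdeal A) A] (k : ℕ)
    (hdim : ((k + 2 : ℕ) : WithBot ℕ∞) ≤ ringKrullDim A) (f : Fin k → A) (hf : ∀ i, f i ∈ maximalIdeal A)
    {V : Scheme.{u}} [IsIntegral V] (v : V ⟶ (FEt.puncturedSpec A : Scheme.{u})) [IsFinite v]
    (hv : Function.Surjective v.base) :
    _root_.IsConnected ((v ≫ (FEt.puncturedSpec A).ι).base ⁻¹' (PrimeSpectrum.zeroLocus (Set.range f))) := by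
  have hA : maximalIdeal A ≠ ⊥ := fun h => by
    rw [ringKrullDim_eq_zero_of_isField (IsLocalRing.isField_iff_maximalIdeal_eq.2 h)] at hdim
    exact absurd (Nat.cast_le.1 (hdim.trans_eq Nat.cast_zero.symm)) (by omega)
  obtain ⟨B, _, _, _, _, _, _, _, j, hje, hjr, hj⟩ := exists_normalization hA v hv
  haveI : IsNoetherianRing B := IsNoetherianRing.of_finite A B
  haveI := CplKaehler4.isAdicComplete_of_finite_local (A := A) (B := B)
  have hd : ((k + 2 : ℕ) : WithBot ℕ∞) ≤ ringKrullDim B :=
    hdim.trans_eq (EGA41Lib.ringKrullDim_eq_of_integral (FaithfulSMul.algebraMap_injective A B)).symm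
  have h1 := isConnected_zeroLocus_punct k hd (fun i => algebraMap A B (f i)) fun i =>
    IsLocalRing.map_maximalIdeal_le _ (Ideal.mem_map_of_mem _ (hf i))
  have h2 : (v ≫ (FEt.puncturedSpec A).ι).base ⁻¹' (PrimeSpectrum.zeroLocus (Set.range f)) =
      j.base ⁻¹' (PrimeSpectrum.zeroLocus (Set.range fun i => algebraMap A B (f i))) := by
    rw [← hj, Set.range_comp' (algebraMap A B) f, ← PrimeSpectrum.preimage_comap_zeroLocus]
    rfl
  rw [h2]
  have himg : j.base '' (j.base ⁻¹' (PrimeSpectrum.zeroLocus (Set.range fun i => algebraMap A B (f i)))) =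
      PrimeSpectrum.zeroLocus (Set.range fun i => algebraMap A B (f i)) ∩ LC.punct B := by
    rw [Set.image_preimage_eq_inter_range, hjr]
  exact ⟨Set.image_nonempty.1 (himg ▸ h1.1), hje.isInducing.isPreconnected_image.1 (himg ▸ h1.2)⟩

omit [IsNoetherianRing A] in
/-- The punctured spectrum of a normal domain is normal. -/
theorem isNormalScheme_punctured [IsIntegrallyClosed A] :
    Pi1.IsNormalScheme (FEt.puncturedSpec A : Scheme.{u}) := fun x => by
  let e := ((FEt.puncturedSpec A).stalkIso x).commRingCatIsoToRingEquiv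
  obtain ⟨hd, hn⟩ := GeomIrrSpread.isNormalScheme_spec A x.1
  haveI := hd
  haveI := hn
  exact ⟨e.toMulEquiv.isDomain _, .of_equiv e.symm⟩

/-- Restriction of covers to a linear section is fully faithful. -/
theorem full_faithful_section [IsIntegrallyClosed A] [IsAdicComplete (maximalIdeal A) A] (k : ℕ)
    (hdim : ((k + 2 : ℕ) : WithBot ℕ∞) ≤ ringKrullDim A) (f : Fin k → A) (hf : ∀ i, f i ∈ maximalIdeal A)
    {Y : Scheme.{u}} (i : Y ⟶ (FEt.puncturedSpec A : Scheme.{u})) [IsClosedImmersion i]
    (hi : Set.range i.base = (FEt.puncturedSpec A).ι.base ⁻¹' (PrimeSpectrum.zeroLocus (Set.range f))) :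
    ConnectedSpace Y ∧ (FEt.restrict i).Full ∧ (FEt.restrict i).Faithful := by
  let U := FEt.puncturedSpec A
  have hA : maximalIdeal A ≠ ⊥ := fun h => by
    rw [ringKrullDim_eq_zero_of_isField (IsLocalRing.isField_iff_maximalIdeal_eq.2 h)] at hdim
    exact absurd (Nat.cast_le.1 (hdim.trans_eq Nat.cast_zero.symm)) (by omega)
  haveI : Nonempty (U : Scheme.{u}) := ⟨⟨⟨⊥, Ideal.isPrime_bot⟩, fun he => hA
    (congrArg PrimeSpectrum.asIdeal (Set.mem_singleton_iff.1 he)).symm⟩⟩
  haveI : IsIntegral (U : Scheme.{u}) := inferInstance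
  have hc := isConnected_section k hdim f hf (𝟙 (U : Scheme.{u})) Function.surjective_id
  rw [Category.id_comp, ← hi] at hc
  have hYc : ConnectedSpace Y := by
    rw [connectedSpace_iff_univ]
    rw [← Set.image_univ] at hc
    exact ⟨Set.image_nonempty.1 hc.1, i.isClosedEmbedding.isInducing.isPreconnected_image.1 hc.2⟩
  have hmeet : ∀ C : Set U, IsClopen C → C.Nonempty → (C ∩ Set.range i.base).Nonempty := fun C hC hne => by
    rw [hC.eq_univ hne, Set.univ_inter]
    exact hc.1
  refine ⟨hYc, Pi1X.restrict_full i hmeet fun W C hC => ?_, Pi1X.restrict_faithful i hmeet⟩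
  haveI : IsFinite W.hom := W.prop.1
  haveI : Etale W.hom := W.prop.2
  have hN := isNormalScheme_punctured (A := A)
  let p := pullback.fst W.hom i
  have hp : Topology.IsClosedEmbedding p.base := p.isClosedEmbedding
  have key : ∀ η : W.left, W.hom.base η = genericPoint U →
      _root_.IsPreconnected (p.base ⁻¹' {y | η ⤳ y}) := by
    intro η hη
    have hcl := Pi1X.isClopen_closure_generic hN W.hom {η} (by simpa using hη)
    replace hcl : IsClopen {y : W.left | η ⤳ y} := by simpa using hcl
    let Z : W.left.Opens := ⟨{y | η ⤳ y}, hcl.2⟩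
    haveI : ConnectedSpace (Z : Scheme.{u}) := by
      refine isConnected_iff_connectedSpace.1 ?_
      have : (Z : Set W.left) = closure {η} := by
        ext y; simp [Z, specializes_iff_mem_closure]
      rw [this]
      exact isIrreducible_singleton.closure.isConnected
    obtain ⟨hf1, hf2⟩ : FEt.prop (Z.ι ≫ W.hom) :=
      MorphismProperty.comp_mem _ _ _ (Pi1X.prop_ι_of_isClopen Z hcl.1) W.prop
    haveI := hf1
    haveI := hf2
    haveI := Pi1X.isIntegral_of_connected hN (Z.ι ≫ W.hom)
    have hsurj : Function.Surjective (Z.ι ≫ W.hom).base := by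
      intro u
      have h1 : genericPoint U ∈ Set.range (Z.ι ≫ W.hom).base := ⟨⟨η, specializes_rfl⟩, hη⟩
      exact (genericPoint_specializes (α := (U : Scheme.{u})) u).mem_closed (Z.ι ≫ W.hom).isClosedMap.isClosed_range h1
    have h2 := (isConnected_section k hdim f hf (Z.ι ≫ W.hom) hsurj).2.image Z.ι.base
      Z.ι.continuous.continuousOn
    have h3 : Z.ι.base '' (((Z.ι ≫ W.hom) ≫ U.ι).base ⁻¹' (PrimeSpectrum.zeroLocus (Set.range f))) =
        p.base '' (p.base ⁻¹' {y | η ⤳ y}) := by
      rw [Set.image_preimage_eq_inter_range, Scheme.Pullback.range_fst]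
      ext y
      constructor
      · rintro ⟨z, hz, rfl⟩
        exact ⟨z.2, hi.superset hz⟩
      · rintro ⟨hy1, hy2⟩
        exact ⟨⟨y, hy1⟩, hi.subset hy2, rfl⟩
    rw [h3] at h2
    exact hp.isInducing.isPreconnected_image.1 h2
  refine ⟨{y | ∃ η ∈ {η | W.hom.base η = genericPoint U ∧ ∃ q ∈ C, η ⤳ p.base q}, η ⤳ y},
    Pi1X.isClopen_closure_generic hN W.hom _ fun η hη => hη.1, ?_⟩
  ext q
  constructor
  · rintro ⟨η, ⟨hη, q', hq', hs'⟩, hs⟩
    exact ((key η hη).subset_isClopen hC ⟨q', hs', hq'⟩) hs
  · intro hq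
    obtain ⟨η, ⟨hη, hs⟩, -⟩ := Pi1X.exists_unique_generization hN W.hom (p.base q)
    exact ⟨η, ⟨hη, q, hq, hs⟩, hs⟩

end Groth.Agent.GrLib8.NormSection
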