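import Groth.Prelude.Def_Found
import Groth.Agent.CompleteNagata.Complete
import Groth.Agent.UnivOpenDvr5.Core
import Groth.Agent.CplKaehler4.RadicialDomain
import Groth.Agent.EGA41Lib.IntDim
import Groth.Agent.LC.PuncturedDim

/-!
# Finite domains over complete local domains and their linear sections
-/

set_option autoImplicit false
set_option linter.style.haveILetI false
set_option backward.isDefEq.respectTransparency false

universe u

open IsLocalRing TopologicalSpace

namespace Groth.Agent.GrLib8.NormSection

/-- An integral extension of domains that is finite after inverting an element gives a finite extension of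
fraction fields. -/
theorem finiteDimensional_of_awayMap_finite {A B : Type u} [CommRing A] [IsDomain A] [CommRing B] [IsDomain B]
    [Algebra A B] [FaithfulSMul A B] [Algebra.IsIntegral A B] (a : A) (ha : a ≠ 0)
    (hfin : (Localization.awayMap (algebraMap A B) a).Finite) :
    letI : Algebra (FractionRing A) (FractionRing B) := FractionRing.liftAlgebra A (FractionRing B)
    FiniteDimensional (FractionRing A) (FractionRing B) := by
  letI : Algebra (FractionRing A) (FractionRing B) := FractionRing.liftAlgebra A (FractionRing B)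
  haveI : IsScalarTower A (FractionRing A) (FractionRing B) := inferInstance
  let K := FractionRing A
  let L := FractionRing B
  have ha' : algebraMap A B a ≠ 0 := fun h => ha (FaithfulSMul.algebraMap_injective A B (by rw [h, map_zero]))
  have huB : IsUnit (algebraMap B L (algebraMap A B a)) :=
    isUnit_iff_ne_zero.2 fun h => ha' (IsFractionRing.injective B L (by rw [h, map_zero]))
  have huA : IsUnit (algebraMap A K a) :=
    isUnit_iff_ne_zero.2 fun h => ha (IsFractionRing.injective A K (by rw [h, map_zero]))
  let ψ : Localization.Away (algebraMap A B a) →+* L := IsLocalization.Away.lift (algebraMap A B a) huB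
  let ι : Localization.Away a →+* K := IsLocalization.Away.lift a huA
  letI : Algebra (Localization.Away a) (Localization.Away (algebraMap A B a)) :=
    (Localization.awayMap (algebraMap A B) a).toAlgebra
  haveI : Module.Finite (Localization.Away a) (Localization.Away (algebraMap A B a)) := hfin
  have hψ : ψ.comp (algebraMap (Localization.Away a) (Localization.Away (algebraMap A B a))) =
      (algebraMap K L).comp ι := by
    refine IsLocalization.ringHom_ext (Submonoid.powers a) (RingHom.ext fun x => ?_)
    simp only [RingHom.comp_apply, RingHom.algebraMap_toAlgebra, Localization.awayMap, IsLocalization.Away.map,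
      IsLocalization.map_eq, ψ, ι, IsLocalization.Away.lift_eq]
    rw [← IsScalarTower.algebraMap_apply A B L]
    exact IsScalarTower.algebraMap_apply A K L x
  obtain ⟨G, hG⟩ := (inferInstance : Module.Finite (Localization.Away a) (Localization.Away (algebraMap A B a))).fg_top
  let S : Subalgebra K L := Algebra.adjoin K (ψ '' ↑G)
  haveI hLA : Algebra.IsAlgebraic K L := by
    haveI : Algebra.IsAlgebraic A B := Algebra.IsIntegral.isAlgebraic
    exact IsFractionRing.comap_isAlgebraic_iff.1 ((IsFractionRing.isAlgebraic_iff' A B L).1 inferInstance)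
  haveI : FiniteDimensional K S := Algebra.finite_adjoin_of_finite_of_isIntegral (G.finite_toSet.image ψ)
    fun x _ => (Algebra.IsAlgebraic.isAlgebraic x).isIntegral
  have hB : ∀ x : B, algebraMap B L x ∈ S := fun x => by
    have key : ∀ y : Localization.Away (algebraMap A B a), ψ y ∈ S := fun y => by
      have hy : y ∈ Submodule.span (Localization.Away a) (G : Set (Localization.Away (algebraMap A B a))) :=
        hG ▸ Submodule.mem_top
      induction hy using Submodule.span_induction with
      | mem z hz => exact Algebra.subset_adjoin ⟨z, hz, rfl⟩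
      | zero => rw [map_zero]; exact S.zero_mem
      | add z w _ _ hz hw => rw [map_add]; exact S.add_mem hz hw
      | smul c z _ hz =>
        rw [Algebra.smul_def, map_mul, show ψ (algebraMap _ _ c) = algebraMap K L (ι c) from RingHom.congr_fun hψ c]
        exact S.mul_mem (S.algebraMap_mem _) hz
    simpa [ψ] using key (algebraMap B _ x)
  have htop : S = ⊤ := by
    refine eq_top_iff.2 fun l _ => ?_
    obtain ⟨x, y, hy, rfl⟩ := IsFractionRing.div_surjective B l
    rw [div_eq_mul_inv]
    exact S.mul_mem (hB x) (S.inv_mem_of_algebraic (x := ⟨_, hB y⟩) (Algebra.IsAlgebraic.isAlgebraic _))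
  exact Module.Finite.equiv ((Subalgebra.equivOfEq S ⊤ htop).trans Subalgebra.topEquiv).toLinearEquiv

/-- Over a complete local domain such an extension is finite. -/
theorem finite_of_awayMap_finite {A B : Type u} [CommRing A] [IsDomain A] [IsNoetherianRing A] [IsLocalRing A]
    [IsAdicComplete (maximalIdeal A) A] [CommRing B] [IsDomain B] [Algebra A B] [FaithfulSMul A B]
    [Algebra.IsIntegral A B] (a : A) (ha : a ≠ 0) (hfin : (Localization.awayMap (algebraMap A B) a).Finite) :
    Module.Finite A B := by
  letI : Algebra (FractionRing A) (FractionRing B) := FractionRing.liftAlgebra A (FractionRing B)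
  haveI : IsScalarTower A (FractionRing A) (FractionRing B) := inferInstance
  haveI : Module.Finite A (integralClosure A (FractionRing B)) :=
    CompleteNagata.isN2_of_complete A (FractionRing B) (finiteDimensional_of_awayMap_finite a ha hfin)
  let i : B →ₐ[A] integralClosure A (FractionRing B) :=
    (IsScalarTower.toAlgHom A B (FractionRing B)).codRestrict _
      fun x => (Algebra.IsIntegral.isIntegral x).map (IsScalarTower.toAlgHom A B (FractionRing B))
  refine Module.Finite.of_injective i.toLinearMap fun x y h => IsFractionRing.injective B (FractionRing B) ?_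
  exact congrArg Subtype.val h

/-- Linear sections of the punctured spectrum of a complete local domain are connected. -/
theorem isConnected_zeroLocus_punct {B : Type u} [CommRing B] [IsDomain B] [IsLocalRing B] [IsNoetherianRing B]
    [IsAdicComplete (maximalIdeal B) B] (k : ℕ) (hdim : ((k + 2 : ℕ) : WithBot ℕ∞) ≤ ringKrullDim B)
    (g : Fin k → B) (hg : ∀ i, g i ∈ maximalIdeal B) :
    IsConnected (PrimeSpectrum.zeroLocus (Set.range g) ∩ LC.punct B) := by
  let η : PrimeSpectrum B := ⟨⊥, Ideal.isPrime_bot⟩
  have hne : η ∈ LC.punct B := by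
    intro h
    have h1 : maximalIdeal B = ⊥ := (congrArg PrimeSpectrum.asIdeal (Set.mem_singleton_iff.1 h)).symm
    have h0 : ringKrullDim B = 0 := ringKrullDim_eq_zero_of_isField (IsLocalRing.isField_iff_maximalIdeal_eq.2 h1)
    rw [h0] at hdim
    exact absurd (Nat.cast_le.1 (hdim.trans_eq Nat.cast_zero.symm)) (by omega)
  have hgen : ∀ x : ↥(LC.punct B), (⟨η, hne⟩ : ↥(LC.punct B)) ⤳ x := fun x =>
    (subtype_specializes_iff _ _).2 ((PrimeSpectrum.le_iff_specializes η x.1).1 (bot_le (a := x.1.asIdeal)))
  have hconn : ∀ s : Set ↥(LC.punct B), IsOpen s → s.Nonempty → IsConnected s := fun s hs hs' => by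
    obtain ⟨x, hx⟩ := hs'
    refine ⟨⟨x, hx⟩, fun u v hu hv hcov ⟨p, hp, hpu⟩ ⟨q, hq, hqv⟩ => ?_⟩
    exact ⟨⟨η, hne⟩, (hgen x).mem_open hs hx, (hgen p).mem_open hu hpu, (hgen q).mem_open hv hqv⟩
  rcases Nat.eq_zero_or_pos k with rfl | hk
  · have h := (hconn Set.univ isOpen_univ ⟨⟨η, hne⟩, trivial⟩).image Subtype.val continuous_subtype_val.continuousOn
    rwa [Set.image_univ, Subtype.range_coe, ← Set.univ_inter (LC.punct B),
      ← PrimeSpectrum.zeroLocus_empty, ← Set.range_eq_empty g] at h
  let J := Ideal.span (Set.range g)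
  have hJ : J ≤ maximalIdeal B := Ideal.span_le.2 (Set.range_subset_iff.2 hg)
  haveI : Nontrivial (B ⧸ J) := Ideal.Quotient.nontrivial_iff.2 fun h => (maximalIdeal.isMaximal B).ne_top
    (top_unique (h ▸ hJ))
  haveI : IsLocalRing (B ⧸ J) := .of_surjective' (Ideal.Quotient.mk J) Ideal.Quotient.mk_surjective
  have hdimp : ((k + 1 : ℕ) : WithBot ℕ∞) ≤ topologicalKrullDim ↥(LC.punct B) := by
    have h1 := LC.dim_zeroLocus_punct (⊥ : Ideal B) ⟨η, by simp, hne⟩
    rw [show PrimeSpectrum.zeroLocus ((⊥ : Ideal B) : Set B) ∩ LC.punct B = LC.punct B by simp,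
      ringKrullDim_eq_of_ringEquiv (RingEquiv.quotientBot B)] at h1
    rw [h1] at hdim
    generalize topologicalKrullDim ↥(LC.punct B) = t at hdim
    induction t using WithBot.recBotCoe with
    | bot => simp at hdim
    | coe t =>
      rw [show ((t : ℕ∞) : WithBot ℕ∞) + 1 = ((t + 1 : ℕ∞) : WithBot ℕ∞) from rfl] at hdim
      have h2 : ((k + 1 : ℕ) : ℕ∞) + 1 ≤ t + 1 := by
        have h3 : ((k + 2 : ℕ) : ℕ∞) ≤ t + 1 := WithBot.coe_le_coe.1 hdim
        push_cast at h3 ⊢
        rw [add_assoc, one_add_one_eq_two]
        exact h3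
      exact_mod_cast (WithTop.add_le_add_iff_right (by simp)).1 h2
  have ha : ∀ Z ∈ irreducibleComponents ↥(LC.punct B), ((k + 1 : ℕ) : WithBot ℕ∞) ≤ topologicalKrullDim ↥Z := by
    intro Z hZ
    have hZu : Z = Set.univ := by
      have hcl : closure ({⟨η, hne⟩} : Set ↥(LC.punct B)) = Set.univ :=
        Set.eq_univ_of_forall fun x => specializes_iff_mem_closure.1 (hgen x)
      exact Set.eq_univ_of_univ_subset (hZ.2 (hcl ▸ isIrreducible_singleton.closure) (Set.subset_univ Z))
    subst hZu
    exact hdimp.trans_eq ((Homeomorph.Set.univ _).isHomeomorph.topologicalKrullDim_eq).symm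
  have hb : LefX.ConnectedInDim ↥(LC.punct B) k := fun Z hZ hd => hconn _ hZ.isOpen_compl
    (Set.nonempty_compl.2 fun hZu => by
      subst hZu
      rw [(Homeomorph.Set.univ _).isHomeomorph.topologicalKrullDim_eq] at hd
      have h3 := hdimp.trans hd.le
      rw [Nat.cast_le] at h3
      omega)
  have h0 := (LC.linearSection_connectedInDim hk ha hb le_rfl g hg).2 ∅ isClosed_empty (by
    rw [topologicalKrullDim, Order.krullDim_eq_bot_iff.2 ⟨fun C => by
      obtain ⟨x, -⟩ := C.isIrreducible'.nonempty; exact x.2⟩]
    exact WithBot.bot_lt_coe _)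
  rw [Set.compl_empty] at h0
  let σ : ↥(LC.punct (B ⧸ J)) → PrimeSpectrum B := fun x => PrimeSpectrum.comap (Ideal.Quotient.mk J) x.1
  have h1 := h0.image σ ((PrimeSpectrum.continuous_comap _).comp continuous_subtype_val).continuousOn
  have hcm : (maximalIdeal (B ⧸ J)).comap (Ideal.Quotient.mk J) = maximalIdeal B :=
    eq_maximalIdeal (Ideal.comap_isMaximal_of_surjective _ Ideal.Quotient.mk_surjective)
  have hrange : σ '' Set.univ = PrimeSpectrum.zeroLocus (Set.range g) ∩ LC.punct B := by
    ext q
    constructor
    · rintro ⟨x, -, rfl⟩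
      refine ⟨fun b hb => ?_, fun h => x.2 (PrimeSpectrum.ext ?_)⟩
      · show Ideal.Quotient.mk J b ∈ x.1.asIdeal
        rw [Ideal.Quotient.eq_zero_iff_mem.2 (Ideal.subset_span hb : b ∈ J)]
        exact zero_mem _
      · refine Ideal.comap_injective_of_surjective _ Ideal.Quotient.mk_surjective ?_
        rw [show (closedPoint (B ⧸ J)).asIdeal = maximalIdeal (B ⧸ J) from rfl, hcm]
        exact congrArg PrimeSpectrum.asIdeal (Set.mem_singleton_iff.1 h)
    · rintro ⟨hq, hqp⟩
      have hle : J ≤ q.asIdeal := Ideal.span_le.2 hq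
      obtain ⟨p, rfl⟩ : q ∈ Set.range (PrimeSpectrum.comap (Ideal.Quotient.mk J)) := by
        rw [range_comap_of_surjective _ _ Ideal.Quotient.mk_surjective, Ideal.mk_ker]
        exact hle
      refine ⟨⟨p, fun h => hqp (PrimeSpectrum.ext ?_)⟩, trivial, rfl⟩
      rw [Set.mem_singleton_iff.1 h]
      exact hcm
  exact hrange ▸ h1

end Groth.Agent.GrLib8.NormSection
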